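import Mathlib
import Cfsg.Prelude.Def_Sz

/-! `Cfsg.Lie.star4` is multiplicative on the symplectic group in characteristic two, so the defining
set of `Cfsg.Lie.Sz` is a group. -/

set_option autoImplicit false

open Matrix

namespace CfsgLib.SuzukiMatrix

variable {F : Type*} [Field F]

/-- The form on two rows. -/
theorem altForm4_eq (u v : Fin 4 → F) :
    Cfsg.Lie.altForm4 u v = u 0 * v 3 + u 1 * v 2 + u 2 * v 1 + u 3 * v 0 := rfl

theorem mem_Sp4_iff {g : GL (Fin 4) F} :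
    g ∈ Cfsg.Lie.Sp4 F ↔ ∀ u v, Cfsg.Lie.altForm4 ((g : Matrix (Fin 4) (Fin 4) F) *ᵥ u)
      ((g : Matrix (Fin 4) (Fin 4) F) *ᵥ v) = Cfsg.Lie.altForm4 u v := Iff.rfl

/-- The form on columns. -/
theorem col_form {g : GL (Fin 4) F} (hg : g ∈ Cfsg.Lie.Sp4 F) (i j : Fin 4) :
    Cfsg.Lie.altForm4 (fun k => (g : Matrix (Fin 4) (Fin 4) F) k i)
      (fun k => (g : Matrix (Fin 4) (Fin 4) F) k j) =
      Cfsg.Lie.altForm4 (Pi.single i (1 : F)) (Pi.single j (1 : F)) := by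
  have h := mem_Sp4_iff.1 hg (Pi.single i (1 : F)) (Pi.single j (1 : F))
  simp only [Matrix.mulVec_single, MulOpposite.op_one, one_smul] at h
  exact h

/-- The antidiagonal matrix. -/
def antiMat (F : Type*) [Field F] : Matrix (Fin 4) (Fin 4) F :=
  !![0, 0, 0, 1; 0, 0, 1, 0; 0, 1, 0, 0; 1, 0, 0, 0]

theorem antiMat_mul_self : antiMat F * antiMat F = 1 := by
  ext i j
  fin_cases i <;> fin_cases j <;> simp [antiMat, Matrix.mul_apply, Fin.sum_univ_four]

theorem transpose_mul_anti_mul {g : GL (Fin 4) F} (hg : g ∈ Cfsg.Lie.Sp4 F) :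
    (g : Matrix (Fin 4) (Fin 4) F)ᵀ * antiMat F * (g : Matrix (Fin 4) (Fin 4) F) = antiMat F := by
  ext i j
  have h := col_form hg i j
  fin_cases i <;> fin_cases j <;>
    simp [altForm4_eq, antiMat, Matrix.mul_apply, Fin.sum_univ_four, Matrix.vecMul, dotProduct] at h ⊢ <;>
    linear_combination h

theorem mul_anti_mul_transpose {g : GL (Fin 4) F} (hg : g ∈ Cfsg.Lie.Sp4 F) :
    (g : Matrix (Fin 4) (Fin 4) F) * antiMat F * (g : Matrix (Fin 4) (Fin 4) F)ᵀ = antiMat F := by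
  set A := (g : Matrix (Fin 4) (Fin 4) F)
  set J := antiMat F
  have h1 : (J * Aᵀ * J) * A = 1 := by
    rw [Matrix.mul_assoc (J * Aᵀ) J A, Matrix.mul_assoc J Aᵀ (J * A), ← Matrix.mul_assoc Aᵀ J A,
      transpose_mul_anti_mul hg, antiMat_mul_self]
  have h2 : A * (J * Aᵀ * J) = 1 := mul_eq_one_comm.1 h1
  have h3 : (A * J * Aᵀ) * J = 1 := by rw [← h2]; simp only [Matrix.mul_assoc]
  calc A * J * Aᵀ = A * J * Aᵀ * (J * J) := by rw [antiMat_mul_self, Matrix.mul_one]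
    _ = J := by rw [← Matrix.mul_assoc, h3, Matrix.one_mul]

theorem row_form {g : GL (Fin 4) F} (hg : g ∈ Cfsg.Lie.Sp4 F) (k l : Fin 4) :
    (g : Matrix (Fin 4) (Fin 4) F) k 0 * (g : Matrix (Fin 4) (Fin 4) F) l 3 +
      (g : Matrix (Fin 4) (Fin 4) F) k 1 * (g : Matrix (Fin 4) (Fin 4) F) l 2 +
      (g : Matrix (Fin 4) (Fin 4) F) k 2 * (g : Matrix (Fin 4) (Fin 4) F) l 1 +
      (g : Matrix (Fin 4) (Fin 4) F) k 3 * (g : Matrix (Fin 4) (Fin 4) F) l 0 = antiMat F k l := by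
  have h := congrFun (congrFun (mul_anti_mul_transpose hg) k) l
  simp only [Matrix.mul_apply, Fin.sum_univ_four, Matrix.transpose_apply] at h
  rw [← h]
  simp [antiMat]
  ring

theorem pairOf_facts : ∀ p : Fin 4, antiMat F (Cfsg.Lie.pairOf p).1 (Cfsg.Lie.pairOf p).2 = 0 := by
  intro p
  fin_cases p <;> simp [Cfsg.Lie.pairOf, antiMat]

/-- The `2 × 2` minor. -/
abbrev minor (A : Matrix (Fin 4) (Fin 4) F) (k l i j : Fin 4) : F := A k i * A l j - A l i * A k j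

theorem star4_mul (h2 : ∀ x : F, x + x = 0) {g : GL (Fin 4) F} (hg : g ∈ Cfsg.Lie.Sp4 F)
    {g' : GL (Fin 4) F} (hg' : g' ∈ Cfsg.Lie.Sp4 F) :
    Cfsg.Lie.star4 ((g : Matrix (Fin 4) (Fin 4) F) * (g' : Matrix (Fin 4) (Fin 4) F)) =
      Cfsg.Lie.star4 (g : Matrix (Fin 4) (Fin 4) F) * Cfsg.Lie.star4 (g' : Matrix (Fin 4) (Fin 4) F) := by
  set A := (g : Matrix (Fin 4) (Fin 4) F) with hA
  set B := (g' : Matrix (Fin 4) (Fin 4) F) with hB
  ext p r
  set k := (Cfsg.Lie.pairOf p).1 with hk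
  set l := (Cfsg.Lie.pairOf p).2 with hl
  set i := (Cfsg.Lie.pairOf r).1 with hi
  set j := (Cfsg.Lie.pairOf r).2 with hj
  have h1 : minor A k l 0 3 + minor A k l 1 2 = 0 := by
    have h := row_form hg k l
    rw [pairOf_facts (F := F) p] at h
    simp only [minor]
    linear_combination h - h2 (A k 2 * A l 1) - h2 (A k 3 * A l 0)
  have h3 : minor B 0 3 i j + minor B 1 2 i j = 0 := by
    have h := col_form hg' i j
    have hz : Cfsg.Lie.altForm4 (Pi.single i (1 : F)) (Pi.single j (1 : F)) = 0 := by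
      rw [hi, hj]
      fin_cases r <;> simp [Cfsg.Lie.pairOf, altForm4_eq]
    rw [hz, altForm4_eq] at h
    simp only [minor]
    linear_combination h - h2 (B 2 i * B 1 j) - h2 (B 3 i * B 0 j)
  show (A * B) k i * (A * B) l j - (A * B) l i * (A * B) k j =
    ∑ s, Cfsg.Lie.star4 A p s * Cfsg.Lie.star4 B s r
  have e : ∀ s, Cfsg.Lie.star4 A p s = minor A k l (Cfsg.Lie.pairOf s).1 (Cfsg.Lie.pairOf s).2 :=
    fun s => rfl
  have e' : ∀ s, Cfsg.Lie.star4 B s r = minor B (Cfsg.Lie.pairOf s).1 (Cfsg.Lie.pairOf s).2 i j :=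
    fun s => rfl
  simp only [e, e', Fin.sum_univ_four, Matrix.mul_apply, Cfsg.Lie.pairOf]
  simp only [minor, Matrix.cons_val] at h1 h3 ⊢
  linear_combination (B 0 i * B 3 j - B 3 i * B 0 j) * h1 + (A k 1 * A l 2 - A l 1 * A k 2) * h3 -
    h2 ((A k 1 * A l 2 - A l 1 * A k 2) * (B 0 i * B 3 j - B 3 i * B 0 j))

theorem map_pow_mul (e : ℕ) [CharP F 2] (A B : Matrix (Fin 4) (Fin 4) F) (he : ∃ n, e = 2 ^ n) :
    (A * B).map (fun x => x ^ e) = A.map (fun x => x ^ e) * B.map (fun x => x ^ e) := by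
  obtain ⟨n, rfl⟩ := he
  haveI : Fact (Nat.Prime 2) := ⟨Nat.prime_two⟩
  exact Matrix.map_mul (f := iterateFrobenius F 2 n)

variable [Fintype F] [CharP F 2]

/-- The defining set of `Cfsg.Lie.Sz` is the whole group. -/
theorem mem_Sz_iff (n : ℕ) {g : GL (Fin 4) F} :
    g ∈ Cfsg.Lie.Sz F (2 ^ n) ↔ g ∈ Cfsg.Lie.Sp4 F ∧
      Cfsg.Lie.star4 (g : Matrix (Fin 4) (Fin 4) F) =
        (g : Matrix (Fin 4) (Fin 4) F).map (fun x => x ^ 2 ^ n) := by
  classical
  refine ⟨fun hg => ?_, fun hg => Subgroup.subset_closure hg⟩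
  let M : Submonoid (GL (Fin 4) F) :=
    { carrier := {g | g ∈ Cfsg.Lie.Sp4 F ∧ Cfsg.Lie.star4 (g : Matrix (Fin 4) (Fin 4) F) =
        (g : Matrix (Fin 4) (Fin 4) F).map (fun x => x ^ 2 ^ n)}
      one_mem' := ⟨Subgroup.one_mem _, by
        ext p r
        fin_cases p <;> fin_cases r <;>
          simp +decide [Cfsg.Lie.star4, Cfsg.Lie.pairOf, Matrix.one_apply]⟩
      mul_mem' := fun {x y} hx hy => ⟨Subgroup.mul_mem _ hx.1 hy.1, by
        rw [Units.val_mul, star4_mul CharTwo.add_self_eq_zero hx.1 hy.1, hx.2, hy.2,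
          map_pow_mul _ _ _ ⟨n, rfl⟩]⟩ }
  induction hg using Subgroup.closure_induction with
  | mem g hg => exact hg
  | one => exact M.one_mem
  | mul x y _ _ hx hy => exact M.mul_mem hx hy
  | inv x _ hx =>
    have h : x ^ (orderOf x - 1) ∈ M := M.pow_mem hx _
    have e : x⁻¹ = x ^ (orderOf x - 1) := by
      refine inv_eq_of_mul_eq_one_right ?_
      rw [← pow_succ', Nat.sub_add_cancel (orderOf_pos x), pow_orderOf_eq_one]
    rwa [← e] at h

end CfsgLib.SuzukiMatrix
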