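import Mathlib
import Cfsg.Prelude.Def_Sz
import Cfsg.Prelude.Def_LieExceptional
import Cfsg.Agent.Lib.Suzuki.Simple
import Cfsg.Agent.Lib.SuzukiMatrix.Star

/-! The matrix group `Cfsg.Lie.Sz F (2 ^ (m + 1))` is the stabiliser `Cfsg.Sz F m` of the ovoid. -/

set_option autoImplicit false

open Matrix
open CfsgLib.Suzuki

namespace CfsgLib.SuzukiMatrix

variable {F : Type*} [Field F] [Fintype F] {m : ℕ}

local notation "SL4" => SpecialLinearGroup (Fin 4) F
local notation "Pt" => Projectivization F (Fin 4 → F)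

/-- The inclusion of the ovoid stabiliser into `GL₄`. -/
def incl (F : Type*) [Field F] (m : ℕ) : Cfsg.Sz F m →* GL (Fin 4) F :=
  SpecialLinearGroup.toGL.comp (Cfsg.Sz F m).subtype

theorem incl_coe (g : Cfsg.Sz F m) :
    ((incl F m g : GL (Fin 4) F) : Matrix (Fin 4) (Fin 4) F) = ((g : SL4) : Matrix (Fin 4) (Fin 4) F) :=
  rfl

theorem incl_injective : Function.Injective (incl F m) := fun g g' e =>
  Subtype.ext (sl_ext fun i j => by rw [← incl_coe g, e, incl_coe])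

theorem incl_mem_Sp4 (h : SzHyp F m) (g : Cfsg.Sz F m) : incl F m g ∈ Cfsg.Lie.Sp4 F := by
  rw [mem_Sp4_iff]
  have hJ := preserves_form h g
  rw [incl_coe]
  generalize ((g : SL4) : Matrix (Fin 4) (Fin 4) F) = A at hJ ⊢
  intro u v
  have e : ∀ u v, Cfsg.Lie.altForm4 u v = u ⬝ᵥ (Cfsg.suzukiForm F *ᵥ v) := fun u v => by
    simp [altForm4_eq, Cfsg.suzukiForm, dotProduct, Fin.sum_univ_four, Matrix.mulVec]
  rw [e, e]
  conv_rhs => rw [← hJ]
  rw [← Matrix.mulVec_mulVec, ← Matrix.mulVec_mulVec, Matrix.dotProduct_mulVec u Aᵀ,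
    Matrix.vecMul_transpose]

theorem incl_mem (h : SzHyp F m) (g : Cfsg.Sz F m) :
    incl F m g ∈ Cfsg.Lie.Sz F (2 ^ (m + 1)) := by
  haveI := h.charTwo
  let K : Subgroup (Cfsg.Sz F m) := (Cfsg.Lie.Sz F (2 ^ (m + 1))).comap (incl F m)
  have hmem : ∀ x : Cfsg.Sz F m, Cfsg.Lie.star4 ((x : SL4) : Matrix (Fin 4) (Fin 4) F) =
      ((x : SL4) : Matrix (Fin 4) (Fin 4) F).map (sig m) → x ∈ K := fun x e =>
    (mem_Sz_iff (m + 1)).2 ⟨incl_mem_Sp4 h x, e⟩
  have h2 := h.two_zero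
  have hsq : ∀ x : F, sig m (x ^ 2) = sig m x ^ 2 := fun x => by rw [sq, sq, sig_mul]
  have hT : ∀ a b, tS h a b ∈ K := fun a b => hmem _ <| by
    show Cfsg.Lie.star4 ((tMat m a b : SL4) : Matrix (Fin 4) (Fin 4) F) = _
    ext p r
    fin_cases p <;> fin_cases r <;>
      simp [tS, tMat, Cfsg.Lie.star4, Cfsg.Lie.pairOf, ovf, h.sig_add, sig_mul, sig_zero, sig_one,
        h.sig_sig, hsq]
    all_goals ring_nf
    all_goals try simp only [h2, mul_zero, zero_mul, add_zero, zero_add, sub_zero]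
    all_goals first
      | linear_combination (-(a * b) : F) * h2
      | linear_combination (-(a ^ 2 * sig m a + sig m b) : F) * h2
      | linear_combination (-(a * sig m a) : F) * h2
      | linear_combination (-(b * sig m a) : F) * h2
      | linear_combination (-(b ^ 2) : F) * h2
      | linear_combination (-(sig m b) : F) * h2
      | linear_combination (-(sig m a * sig m b + sig m a ^ 2 * a ^ 2) : F) * h2
  have hD : ∀ k, dS h k ∈ K := fun k => hmem _ <| by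
    show Cfsg.Lie.star4 ((dMat m k : SL4) : Matrix (Fin 4) (Fin 4) F) = _
    have hs : sig m ((rho m k : Fˣ) : F) = (k : F) := by
      refine h.pow_sq_inj ?_
      have hp := congrArg (sig m) (h.units_rho_sq k)
      rw [h.sig_sig] at hp
      rw [← hp, sig, sig, ← pow_mul, ← pow_mul, mul_comm]
    have hk : sig m (k : F) = ((rho m k : Fˣ) : F) ^ 2 := (h.units_rho_sq k).symm
    ext p r
    fin_cases p <;> fin_cases r <;>
      simp [dS, dMat, Cfsg.Lie.star4, Cfsg.Lie.pairOf, sig_mul, sig_inv, sig_zero, hs, hk]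
    all_goals field_simp
  have hW : wS h ∈ K := hmem _ <| by
    show Cfsg.Lie.star4 ((wMat : SL4) : Matrix (Fin 4) (Fin 4) F) = _
    ext p r
    fin_cases p <;> fin_cases r <;>
      simp [wS, wMat, Cfsg.Lie.star4, Cfsg.Lie.pairOf, sig_zero, sig_one, h.neg_eq]
  suffices g ∈ K from this
  rcases mem_ovoid.1 (smul_ovoid g.2 (pInf_mem (F := F) (m := m))) with e | ⟨a, b, e⟩
  · obtain ⟨c, d, k, rfl⟩ := exists_tS_dS h e
    exact mul_mem (hT c d) (hD k)
  · have h1 : ((tS h a b * wS h)⁻¹ * g) • (pInf : Pt) = pInf := by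
      rw [mul_smul, inv_smul_eq_iff, mul_smul, wS_smul_pInf, tS_smul_p0]
      exact e
    obtain ⟨c, d, k, hk⟩ := exists_tS_dS h h1
    rw [eq_mul_of_inv_mul_eq hk]
    exact mul_mem (mul_mem (hT a b) hW) (mul_mem (hT c d) (hD k))

theorem firstColumn (h : SzHyp F m) {g : GL (Fin 4) F}
    (hg : g ∈ Cfsg.Lie.Sz F (2 ^ (m + 1))) :
    ((g : Matrix (Fin 4) (Fin 4) F) 3 0 = 0 → (g : Matrix (Fin 4) (Fin 4) F) 1 0 = 0 ∧
        (g : Matrix (Fin 4) (Fin 4) F) 2 0 = 0) ∧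
    ((g : Matrix (Fin 4) (Fin 4) F) 3 0 ≠ 0 → ∃ x y : F, ∀ i,
      (g : Matrix (Fin 4) (Fin 4) F) i 0 = (g : Matrix (Fin 4) (Fin 4) F) 3 0 * affVec m x y i) := by
  haveI := h.charTwo
  obtain ⟨hSp, hstar⟩ := (mem_Sz_iff (m + 1)).1 hg
  have hB := col_form hSp 0 1
  have hσ : ∀ p, Cfsg.Lie.star4 (g : Matrix (Fin 4) (Fin 4) F) p 0 =
      sig m ((g : Matrix (Fin 4) (Fin 4) F) p 0) := fun p => congrFun (congrFun hstar p) 0
  set A := (g : Matrix (Fin 4) (Fin 4) F) with hA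
  rw [altForm4_eq, altForm4_eq] at hB
  simp at hB
  have q01 : A 0 0 * A 1 1 - A 1 0 * A 0 1 = sig m (A 0 0) := hσ 0
  have q02 : A 0 0 * A 2 1 - A 2 0 * A 0 1 = sig m (A 1 0) := hσ 1
  have q13 : A 1 0 * A 3 1 - A 3 0 * A 1 1 = sig m (A 2 0) := hσ 2
  have q23 : A 2 0 * A 3 1 - A 3 0 * A 2 1 = sig m (A 3 0) := hσ 3
  have h2 := CharTwo.add_self_eq_zero (R := F)
  set P := A 0 0 * A 3 1 - A 3 0 * A 0 1 with hP
  have hP' : A 1 0 * A 2 1 - A 2 0 * A 1 1 = P := by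
    rw [hP]
    linear_combination hB - h2 (A 2 0 * A 1 1) - h2 (A 0 0 * A 3 1)
  have e013 : A 1 0 * P + A 0 0 * sig m (A 2 0) + A 3 0 * sig m (A 0 0) = 0 := by
    rw [← q13, ← q01, hP]
    linear_combination h2 (A 1 0 * (A 0 0 * A 3 1)) - h2 (A 3 0 * (A 1 0 * A 0 1))
  have e023 : A 2 0 * P + A 0 0 * sig m (A 3 0) + A 3 0 * sig m (A 1 0) = 0 := by
    rw [← q23, ← q02, hP]
    linear_combination h2 (A 2 0 * (A 0 0 * A 3 1)) - h2 (A 3 0 * (A 2 0 * A 0 1))
  have e123 : A 3 0 * P + A 1 0 * sig m (A 3 0) + A 2 0 * sig m (A 2 0) = 0 := by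
    rw [← q23, ← q13, ← hP']
    linear_combination h2 (A 1 0 * (A 2 0 * A 3 1)) - h2 (A 2 0 * (A 3 0 * A 1 1))
  have e012 : A 0 0 * P + A 1 0 * sig m (A 1 0) + A 2 0 * sig m (A 0 0) = 0 := by
    rw [← hP', ← q02, ← q01]
    linear_combination h2 (A 0 0 * (A 1 0 * A 2 1)) - h2 (A 1 0 * (A 2 0 * A 0 1))
  refine ⟨fun h3 => ?_, fun h3 => ?_⟩
  · rw [h3, sig_zero] at e123
    have hc2 : A 2 0 = 0 := by
      have : A 2 0 * sig m (A 2 0) = 0 := by linear_combination e123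
      rcases mul_eq_zero.1 this with h' | h'
      · exact h'
      · exact sig_eq_zero.1 h'
    refine ⟨?_, hc2⟩
    rw [h3, hc2, sig_zero] at e013
    have h' : A 1 0 * P = 0 := by linear_combination e013
    rcases mul_eq_zero.1 h' with h' | h'
    · exact h'
    · rw [h', hc2] at e012
      have : A 1 0 * sig m (A 1 0) = 0 := by linear_combination e012
      rcases mul_eq_zero.1 this with h'' | h''
      · exact h''
      · exact sig_eq_zero.1 h''
  · set c := A 3 0 with hc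
    have hsc : sig m c ≠ 0 := fun e => h3 (sig_eq_zero.1 e)
    refine ⟨A 2 0 / c, A 1 0 / c, fun i => ?_⟩
    have hy : A 1 0 / c = - (A 2 0 / c * sig m (A 2 0 / c)) - P / sig m c := by
      rw [sig_div]; field_simp; linear_combination e123
    fin_cases i
    · show A 0 0 = c * ovf m (A 2 0 / c) (A 1 0 / c)
      unfold ovf
      rw [sig_div, sig_div]
      field_simp
      linear_combination c * e023 - A 2 0 * e123 - h2 (c ^ 2 * sig m (A 1 0))
    · show A 1 0 = c * (A 1 0 / c); field_simp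
    · show A 2 0 = c * (A 2 0 / c); field_simp
    · show A 3 0 = c * 1; rw [mul_one]

theorem exists_smul (h : SzHyp F m) {g : SL4}
    (hg : SpecialLinearGroup.toGL g ∈ Cfsg.Lie.Sz F (2 ^ (m + 1))) :
    g • (pInf : Pt) ∈ Cfsg.suzukiOvoid F m := by
  obtain ⟨h1, h2⟩ := firstColumn h hg
  set A := ((g : SL4) : Matrix (Fin 4) (Fin 4) F) with hA
  have hv : A *ᵥ ![1, 0, 0, 0] = fun i => A i 0 := by
    ext i; simp [Matrix.mulVec, dotProduct, Fin.sum_univ_four]
  have hne : A *ᵥ ![1, 0, 0, 0] ≠ 0 := fun e => (infVec_ne_zero (F := F)) (by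
    have h' := congrArg (fun v => ((g⁻¹ : SL4) : Matrix (Fin 4) (Fin 4) F) *ᵥ v) e
    rw [Matrix.mulVec_mulVec, Matrix.mulVec_zero,
      show ((g⁻¹ : SL4) : Matrix (Fin 4) (Fin 4) F) * A = 1 from
        congrArg Subtype.val (inv_mul_cancel g), Matrix.one_mulVec] at h'
    exact h')
  rw [mem_ovoid]
  by_cases h3 : A 3 0 = 0
  · obtain ⟨e1, e2⟩ := h1 h3
    change A 1 0 = 0 at e1
    change A 2 0 = 0 at e2
    left
    unfold pInf Cfsg.suzukiPointInfinity
    rw [Projectivization.smul_mk]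
    refine (Projectivization.mk_eq_mk_iff' F _ _ _ _).2 ⟨A 0 0, ?_⟩
    show A 0 0 • ![(1 : F), 0, 0, 0] = A *ᵥ ![1, 0, 0, 0]
    rw [hv]
    ext i
    fin_cases i <;> simp [e1, e2, h3]
  · obtain ⟨x, y, hxy⟩ := h2 h3
    right
    refine ⟨x, y, ?_⟩
    unfold pInf Cfsg.suzukiPointInfinity pAff
    rw [Projectivization.smul_mk]
    refine (Projectivization.mk_eq_mk_iff' F _ _ _ _).2 ⟨A 3 0, ?_⟩
    show A 3 0 • affVec m x y = A *ᵥ ![1, 0, 0, 0]
    rw [hv]
    ext i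
    exact (hxy i).symm

theorem exists_incl (h : SzHyp F m) {g : GL (Fin 4) F}
    (hg : g ∈ Cfsg.Lie.Sz F (2 ^ (m + 1))) : ∃ x : Cfsg.Sz F m, incl F m x = g := by
  haveI := h.charTwo
  have hdet : (g : Matrix (Fin 4) (Fin 4) F).det = 1 := by
    have e := congrArg Matrix.det (transpose_mul_anti_mul ((mem_Sz_iff (m + 1)).1 hg).1)
    rw [Matrix.det_mul, Matrix.det_mul, Matrix.det_transpose] at e
    have hJ : (antiMat F).det ≠ 0 := fun e0 => by
      have := congrArg Matrix.det (antiMat_mul_self (F := F))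
      rw [Matrix.det_mul, e0, mul_zero, Matrix.det_one] at this
      exact zero_ne_one this
    have h1 : (g : Matrix (Fin 4) (Fin 4) F).det ^ 2 = 1 ^ 2 := by
      refine mul_right_cancel₀ hJ ?_
      linear_combination e
    exact h.pow_sq_inj h1
  let s : SL4 := ⟨(g : Matrix (Fin 4) (Fin 4) F), hdet⟩
  have hs : SpecialLinearGroup.toGL s = g := Units.ext rfl
  refine ⟨⟨s, mem_Sz_of_maps fun p hp => ?_⟩, hs⟩
  obtain ⟨x, hx⟩ := exists_smul_pInf h hp
  rw [← hx]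
  show s • (x : SL4) • (pInf : Pt) ∈ _
  rw [← mul_smul]
  refine exists_smul h ?_
  rw [map_mul, hs]
  exact mul_mem hg (incl_mem h x)

theorem range_incl (h : SzHyp F m) : (incl F m).range = Cfsg.Lie.Sz F (2 ^ (m + 1)) := by
  ext g
  exact ⟨fun ⟨x, hx⟩ => hx ▸ incl_mem h x, fun hg => exists_incl h hg⟩

/-- The Suzuki group as ovoid stabiliser is isomorphic to the matrix group of `Def_Sz`. -/
noncomputable def szEquiv (h : SzHyp F m) : Cfsg.Sz F m ≃* Cfsg.Lie.Sz F (2 ^ (m + 1)) :=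
  (MonoidHom.ofInjective incl_injective).trans (MulEquiv.subgroupCongr (range_incl h))

theorem szEquiv_coe (h : SzHyp F m) (g : Cfsg.Sz F m) :
    ((szEquiv h g : GL (Fin 4) F) : Matrix (Fin 4) (Fin 4) F) =
      ((g : SL4) : Matrix (Fin 4) (Fin 4) F) := rfl

theorem card_lieSz (h : SzHyp F m) : Nat.card (Cfsg.Lie.Sz F (2 ^ (m + 1))) =
    (2 ^ (2 * m + 1)) ^ 2 * ((2 ^ (2 * m + 1)) ^ 2 + 1) * (2 ^ (2 * m + 1) - 1) := by
  rw [← Nat.card_congr (szEquiv h).toEquiv, CfsgLib.Suzuki.card h]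

theorem isSimpleGroup_lieSz (h : SzHyp F m) :
    IsSimpleGroup (Cfsg.Lie.Sz F (2 ^ (m + 1))) :=
  (szEquiv h).isSimpleGroup_congr.1 (CfsgLib.Suzuki.isSimpleGroup h)

end CfsgLib.SuzukiMatrix
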